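import Mathlib.Analysis.InnerProductSpace.PiL2
import Mathlib.RepresentationTheory.Basic
import Mathlib.Algebra.Order.Chebyshev
import Mathlib.Tactic

/-!
# The 60 degree theorem (helper571's form of Blichfeldt's theorem)

`ρ` is a representation of a finite group `G` by isometries of a finite dimensional inner product space `V` (over
`ℝ` or `ℂ`), `X ≤ G` is generated by `X`-conjugates of `b`, `C_V(X) = C_V(b) = E` and `‖(1 - b) v‖ ≤ ‖v‖`. If `X` is
irreducible on `S = Eᗮ`, then for each `g : G` either `g S = S` or `g S ≤ E`.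
-/

set_option autoImplicit false
set_option linter.unusedSectionVars false

namespace Cfsg.Agent.H988.RV

open Module

section Iso

variable {K : Type*} [RCLike K] {V : Type*} [NormedAddCommGroup V] [InnerProductSpace K V]
  [FiniteDimensional K V] {G : Type*} [Group G]

local notation "⟪" x ", " y "⟫" => inner K x y

variable {ρ : Representation K G V} (hρ : ∀ g v, ‖ρ g v‖ = ‖v‖)

include hρ in
theorem inner_rho (g : G) (v w : V) : ⟪ρ g v, ρ g w⟫ = ⟪v, w⟫ :=
  ((⟨ρ g, hρ g⟩ : V →ₗᵢ[K] V)).inner_map_map v w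

theorem rho_inv_apply (g : G) (v : V) : ρ g⁻¹ (ρ g v) = v := by
  rw [← Module.End.mul_apply, ← map_mul, inv_mul_cancel, map_one]; rfl

theorem rho_apply_inv (g : G) (v : V) : ρ g (ρ g⁻¹ v) = v := by
  rw [← Module.End.mul_apply, ← map_mul, mul_inv_cancel, map_one]; rfl

theorem rho_mul_apply (g h : G) (v : V) : ρ (g * h) v = ρ g (ρ h v) := by
  rw [map_mul, Module.End.mul_apply]

include hρ in
theorem inner_rho_right (g : G) (v w : V) : ⟪v, ρ g w⟫ = ⟪ρ g⁻¹ v, w⟫ := by
  rw [← inner_rho hρ g (ρ g⁻¹ v) w, rho_apply_inv]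

/-- the mass -/
noncomputable def mass (ρ : Representation K G V) (E : Submodule K V) (g : G) : ℝ :=
  ∑ j, ‖(E.orthogonalProjectionOnto (ρ g (stdOrthonormalBasis K E j : V)))‖ ^ 2

theorem sum_inner (E : Submodule K V) (v : V) :
    ∑ i, ‖⟪(stdOrthonormalBasis K E i : V), v⟫‖ ^ 2 = ‖E.orthogonalProjectionOnto v‖ ^ 2 := by
  rw [← (stdOrthonormalBasis K E).sum_sq_norm_inner_right (E.orthogonalProjectionOnto v)]
  refine Finset.sum_congr rfl fun i _ => ?_
  rw [← Submodule.inner_orthogonalProjectionOnto_eq_of_mem_left]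

theorem norm_basis (E : Submodule K V) (j : Fin (finrank K E)) :
    ‖(stdOrthonormalBasis K E j : V)‖ = 1 :=
  (stdOrthonormalBasis K E).norm_eq_one j

theorem split (E : Submodule K V) (v : V) :
    ‖v‖ ^ 2 = ‖E.orthogonalProjectionOnto v‖ ^ 2 + ‖Eᗮ.orthogonalProjectionOnto v‖ ^ 2 :=
  Submodule.norm_sq_eq_add_norm_sq_projection v E

include hρ in
theorem mass_compl (E : Submodule K V) (g : G) :
    mass ρ E g + finrank K (Eᗮ : Submodule K V) = finrank K E + mass ρ Eᗮ g⁻¹ := by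
  have h1 : mass ρ E g + ∑ j, ‖Eᗮ.orthogonalProjectionOnto (ρ g (stdOrthonormalBasis K E j : V))‖ ^ 2 =
      finrank K E := by
    rw [mass, ← Finset.sum_add_distrib]
    have : ∀ j ∈ (Finset.univ : Finset (Fin (finrank K E))),
        ‖E.orthogonalProjectionOnto (ρ g (stdOrthonormalBasis K E j : V))‖ ^ 2 +
        ‖Eᗮ.orthogonalProjectionOnto (ρ g (stdOrthonormalBasis K E j : V))‖ ^ 2 = (1 : ℝ) := by
      intro j _
      rw [← split, hρ, norm_basis, one_pow]
    rw [Finset.sum_congr rfl this]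
    simp
  have h2 : (∑ l, ‖E.orthogonalProjectionOnto (ρ g⁻¹ (stdOrthonormalBasis K (Eᗮ : Submodule K V) l : V))‖ ^ 2) +
      mass ρ Eᗮ g⁻¹ = finrank K (Eᗮ : Submodule K V) := by
    rw [mass, ← Finset.sum_add_distrib]
    have : ∀ j ∈ (Finset.univ : Finset (Fin (finrank K (Eᗮ : Submodule K V)))),
        ‖E.orthogonalProjectionOnto (ρ g⁻¹ (stdOrthonormalBasis K (Eᗮ : Submodule K V) j : V))‖ ^ 2 +
        ‖Eᗮ.orthogonalProjectionOnto (ρ g⁻¹ (stdOrthonormalBasis K (Eᗮ : Submodule K V) j : V))‖ ^ 2 =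
          (1 : ℝ) := by
      intro j _
      rw [← split, hρ, norm_basis, one_pow]
    rw [Finset.sum_congr rfl this]
    simp
  have h3 : ∑ j, ‖Eᗮ.orthogonalProjectionOnto (ρ g (stdOrthonormalBasis K E j : V))‖ ^ 2 =
      ∑ l, ‖E.orthogonalProjectionOnto (ρ g⁻¹ (stdOrthonormalBasis K (Eᗮ : Submodule K V) l : V))‖ ^ 2 := by
    simp_rw [← sum_inner]
    rw [Finset.sum_comm]
    refine Finset.sum_congr rfl fun l _ => Finset.sum_congr rfl fun j _ => ?_
    rw [inner_rho_right hρ, ← inner_conj_symm, RCLike.norm_conj]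
  linarith

/-- `g` fixes the subspace -/
def Fix (ρ : Representation K G V) (E : Submodule K V) (g : G) : Prop := ∀ v ∈ E, ρ g v ∈ E

theorem fix_of_basis {E F : Submodule K V} {g : G}
    (h : ∀ j, ρ g (stdOrthonormalBasis K E j : V) ∈ F) : ∀ v ∈ E, ρ g v ∈ F := by
  intro v hv
  have h1 := (stdOrthonormalBasis K E).sum_repr ⟨v, hv⟩
  have h2 : v = ∑ i, (stdOrthonormalBasis K E).repr ⟨v, hv⟩ i • (stdOrthonormalBasis K E i : V) := by
    conv_lhs => rw [show v = ((⟨v, hv⟩ : E) : V) from rfl, ← h1]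
    simp
  rw [h2, map_sum]
  refine Submodule.sum_mem _ fun i _ => ?_
  rw [map_smul]
  exact F.smul_mem _ (h i)

include hρ in
theorem fix_of_mass {E : Submodule K V} {g : G} (h : (finrank K E : ℝ) ≤ mass ρ E g) : Fix ρ E g := by
  have h1 : mass ρ E g + ∑ j, ‖Eᗮ.orthogonalProjectionOnto (ρ g (stdOrthonormalBasis K E j : V))‖ ^ 2 =
      finrank K E := by
    rw [mass, ← Finset.sum_add_distrib]
    have : ∀ j ∈ (Finset.univ : Finset (Fin (finrank K E))),
        ‖E.orthogonalProjectionOnto (ρ g (stdOrthonormalBasis K E j : V))‖ ^ 2 +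
        ‖Eᗮ.orthogonalProjectionOnto (ρ g (stdOrthonormalBasis K E j : V))‖ ^ 2 = (1 : ℝ) := by
      intro j _
      rw [← split, hρ, norm_basis, one_pow]
    rw [Finset.sum_congr rfl this]
    simp
  have h2 : ∑ j, ‖Eᗮ.orthogonalProjectionOnto (ρ g (stdOrthonormalBasis K E j : V))‖ ^ 2 = 0 := by
    refine le_antisymm (by linarith) (Finset.sum_nonneg fun _ _ => by positivity)
  refine fix_of_basis fun j => ?_
  have h3 := (Finset.sum_eq_zero_iff_of_nonneg fun _ _ => by positivity).mp h2 j (Finset.mem_univ j)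
  have h4 : Eᗮ.orthogonalProjectionOnto (ρ g (stdOrthonormalBasis K E j : V)) = 0 := by
    rw [← norm_eq_zero]
    exact pow_eq_zero_iff two_ne_zero |>.mp h3
  rw [Submodule.orthogonalProjectionOnto_eq_zero_iff, Submodule.orthogonal_orthogonal] at h4
  exact h4

include hρ in
theorem orth_of_mass {S : Submodule K V} {g : G} (h : mass ρ S g ≤ 0) : ∀ v ∈ S, ρ g v ∈ Sᗮ := by
  have h2 : mass ρ S g = 0 := le_antisymm h (Finset.sum_nonneg fun _ _ => by positivity)
  refine fix_of_basis fun j => ?_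
  have h3 := (Finset.sum_eq_zero_iff_of_nonneg fun _ _ => by positivity).mp h2 j (Finset.mem_univ j)
  have h4 : S.orthogonalProjectionOnto (ρ g (stdOrthonormalBasis K S j : V)) = 0 := by
    rw [← norm_eq_zero]
    exact pow_eq_zero_iff two_ne_zero |>.mp h3
  rwa [Submodule.orthogonalProjectionOnto_eq_zero_iff] at h4

include hρ in
/-- the commutator inequality -/
theorem key {E : Submodule K V} {b B : G} (hbE : ∀ v ∈ E, ρ b v = v) (hb : ∀ v, ‖v - ρ b v‖ ≤ ‖v‖) :
    (((finrank K E : ℝ) + mass ρ E B) / 2) ^ 2 ≤ finrank K E * mass ρ E (b⁻¹ * B⁻¹ * b * B) := by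
  set C := b⁻¹ * B⁻¹ * b * B with hC
  let e : Fin (finrank K E) → V := fun j => (stdOrthonormalBasis K E j : V)
  have he : ∀ j, ‖e j‖ = 1 := norm_basis E
  have heE : ∀ j, e j ∈ E := fun j => (stdOrthonormalBasis K E j).2
  have h1 : ∀ v, ‖v - ρ b v‖ ≤ ‖Eᗮ.orthogonalProjectionOnto v‖ := by
    intro v
    have h2 : v = (E.orthogonalProjectionOnto v : V) + (Eᗮ.orthogonalProjectionOnto v : V) :=
      (Submodule.starProjection_add_starProjection_orthogonal (K := E) v).symm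
    have h3 : v - ρ b v = (Eᗮ.orthogonalProjectionOnto v : V) - ρ b (Eᗮ.orthogonalProjectionOnto v : V) := by
      conv_lhs => rw [h2]
      rw [map_add, hbE _ (E.orthogonalProjectionOnto v).2]
      abel
    rw [h3]
    exact hb _
  have h2 : ∀ j, ‖e j - ρ C (e j)‖ = ‖ρ B (e j) - ρ b (ρ B (e j))‖ := by
    intro j
    have h3 : ρ C (e j) = ρ b⁻¹ (ρ B⁻¹ (ρ b (ρ B (e j)))) := by
      rw [hC, rho_mul_apply, rho_mul_apply, rho_mul_apply]
    rw [h3, ← hρ b (e j - _), map_sub, rho_apply_inv, hbE _ (heE j), ← hρ B (e j - _), map_sub, rho_apply_inv]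
  have h3 : ∀ j, (1 + ‖E.orthogonalProjectionOnto (ρ B (e j))‖ ^ 2) / 2 ≤
      ‖E.orthogonalProjectionOnto (ρ C (e j))‖ := by
    intro j
    have h4 := norm_sub_sq (𝕜 := K) (e j) (ρ C (e j))
    rw [he, hρ, he, h2] at h4
    have h5 := h1 (ρ B (e j))
    have h6 : ‖ρ B (e j) - ρ b (ρ B (e j))‖ ^ 2 ≤ ‖Eᗮ.orthogonalProjectionOnto (ρ B (e j))‖ ^ 2 :=
      pow_le_pow_left₀ (norm_nonneg _) h5 2
    have h7 := split E (ρ B (e j))
    rw [hρ, he] at h7
    have h8 : RCLike.re ⟪e j, ρ C (e j)⟫ ≤ ‖E.orthogonalProjectionOnto (ρ C (e j))‖ := by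
      refine (RCLike.re_le_norm _).trans ?_
      have h9 : ⟪e j, ρ C (e j)⟫ =
          inner K (stdOrthonormalBasis K E j) (E.orthogonalProjectionOnto (ρ C (e j))) := by
        rw [Submodule.inner_orthogonalProjectionOnto_eq_of_mem_left]
      rw [h9]
      refine (norm_inner_le_norm _ _).trans ?_
      rw [(stdOrthonormalBasis K E).norm_eq_one, one_mul]
    linarith
  have h4 : ((finrank K E : ℝ) + mass ρ E B) / 2 ≤ ∑ j, ‖E.orthogonalProjectionOnto (ρ C (e j))‖ := by
    refine le_trans (le_of_eq ?_) (Finset.sum_le_sum fun j _ => h3 j)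
    rw [← Finset.sum_div, Finset.sum_add_distrib]
    simp [mass, e]
  have h5 : 0 ≤ ((finrank K E : ℝ) + mass ρ E B) / 2 := by
    have : 0 ≤ mass ρ E B := Finset.sum_nonneg fun _ _ => by positivity
    positivity
  refine (pow_le_pow_left₀ h5 h4 2).trans ?_
  refine (sq_sum_le_card_mul_sum_sq).trans ?_
  simp [mass, e]

/-- the conjugates of `b` under `X` -/
def conjs (X : Subgroup G) (b : G) : Set G := {y | ∃ x ∈ X, y = x * b * x⁻¹}

/-- the stabiliser of a subspace -/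
def fixSub [Finite G] (ρ : Representation K G V) (E : Submodule K V) : Subgroup G where
  carrier := {g | Fix ρ E g}
  mul_mem' {g h} hg hh := by
    intro v hv
    rw [rho_mul_apply]
    exact hg _ (hh v hv)
  one_mem' := by
    intro v hv
    rw [map_one]
    exact hv
  inv_mem' {g} hg := by
    have h1 : ∀ n : ℕ, Fix ρ E (g ^ n) := by
      intro n
      induction n with
      | zero =>
        intro v hv
        rw [pow_zero, map_one]
        exact hv
      | succ n ih =>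
        intro v hv
        rw [pow_succ, rho_mul_apply]
        exact ih _ (hg v hv)
    have h2 : g⁻¹ = g ^ (orderOf g - 1) := by
      rw [inv_eq_iff_mul_eq_one, ← pow_succ', Nat.sub_add_cancel (orderOf_pos g), pow_orderOf_eq_one]
    show Fix ρ E g⁻¹
    rw [h2]
    exact h1 _

theorem mem_fixSub [Finite G] {E : Submodule K V} {g : G} : g ∈ fixSub ρ E ↔ Fix ρ E g := Iff.rfl

include hρ in
theorem fix_perp {S : Submodule K V} {g : G} (h : Fix ρ S g⁻¹) : Fix ρ (Sᗮ : Submodule K V) g := by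
  intro v hv
  rw [Submodule.mem_orthogonal]
  intro u hu
  rw [inner_rho_right hρ]
  exact (Submodule.mem_orthogonal S v).mp hv _ (h u hu)

include hρ in
theorem orth_inv {S : Submodule K V} {g : G} (h : ∀ v ∈ S, ρ g v ∈ (Sᗮ : Submodule K V)) :
    ∀ v ∈ S, ρ g⁻¹ v ∈ (Sᗮ : Submodule K V) := by
  intro v hv
  rw [Submodule.mem_orthogonal]
  intro u hu
  rw [inner_rho_right hρ, inv_inv, ← inner_conj_symm, (Submodule.mem_orthogonal S _).mp (h u hu) v hv, map_zero]

include hρ in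
/-- **Theorem 60** for isometries. -/
theorem sixty_iso [Finite G] (X : Subgroup G) (b : G)
    (hgen : X ≤ Subgroup.closure (conjs X b)) (S : Submodule K V)
    (hfix : ∀ v ∈ (Sᗮ : Submodule K V), ∀ x ∈ X, ρ x v = v)
    (hbX : b ∈ X)
    (hS : ∀ v, ρ b v - v ∈ S) (hker : ∀ v, ρ b v = v → v ∈ (Sᗮ : Submodule K V))
    (hb : ∀ v, ‖v - ρ b v‖ ≤ ‖v‖)
    (hirr : ∀ W : Submodule K V, W ≤ S → (∀ x ∈ X, ∀ w ∈ W, ρ x w ∈ W) → W = ⊥ ∨ W = S) (g : G) :
    (∀ v ∈ S, ρ g v ∈ S) ∨ ∀ v ∈ S, ρ g v ∈ (Sᗮ : Submodule K V) := by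
  classical
  have hEo : ((Sᗮ : Submodule K V)ᗮ : Submodule K V) = S := Submodule.orthogonal_orthogonal S
  have hES : ∀ g : G, Fix ρ (Sᗮ : Submodule K V) g → Fix ρ S g := by
    intro g hg
    have h1 := fix_perp hρ (g := g) (S := (Sᗮ : Submodule K V)) ((fixSub ρ (Sᗮ : Submodule K V)).inv_mem hg)
    rwa [hEo] at h1
  by_cases hg : Fix ρ (Sᗮ : Submodule K V) g
  · exact Or.inl (hES g hg)
  have : Nonempty {g : G // ¬ Fix ρ (Sᗮ : Submodule K V) g} := ⟨⟨g, hg⟩⟩
  obtain ⟨⟨B, hB⟩, hmax⟩ :=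
    Finite.exists_max (fun g : {g : G // ¬ Fix ρ (Sᗮ : Submodule K V) g} => mass ρ (Sᗮ : Submodule K V) g)
  -- the conjugates of `b` fix `B E`
  have hy : ∀ y ∈ conjs X b, Fix ρ (Sᗮ : Submodule K V) (B⁻¹ * y * B) := by
    rintro y ⟨x, hx, rfl⟩
    set y := x * b * x⁻¹ with hyd
    have hyX : y ∈ X := X.mul_mem (X.mul_mem hx hbX) (X.inv_mem hx)
    have hyE : ∀ v ∈ (Sᗮ : Submodule K V), ρ y v = v := fun v hv => hfix v hv y hyX
    have hyn : ∀ v, ‖v - ρ y v‖ ≤ ‖v‖ := by
      intro v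
      have h1 : ‖v - ρ y v‖ = ‖ρ x⁻¹ v - ρ b (ρ x⁻¹ v)‖ := by
        rw [← hρ x (ρ x⁻¹ v - _), map_sub, rho_apply_inv, hyd, rho_mul_apply, rho_mul_apply]
      rw [h1]
      exact (hb _).trans (le_of_eq (hρ _ _))
    have hC : Fix ρ (Sᗮ : Submodule K V) (y⁻¹ * B⁻¹ * y * B) := by
      by_contra hC
      have h1 := hmax ⟨_, hC⟩
      have h2 := key hρ (B := B) hyE hyn
      have h3 : (0 : ℝ) ≤ finrank K (Sᗮ : Submodule K V) := Nat.cast_nonneg _
      have h4 := mul_le_mul_of_nonneg_left h1 h3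
      refine hB (fix_of_mass hρ ?_)
      have h5 : ((finrank K (Sᗮ : Submodule K V) : ℝ) - mass ρ (Sᗮ : Submodule K V) B) ^ 2 ≤ 0 := by
        have h6 : (((finrank K (Sᗮ : Submodule K V) : ℝ) + mass ρ (Sᗮ : Submodule K V) B) / 2) ^ 2 ≤
            finrank K (Sᗮ : Submodule K V) * mass ρ (Sᗮ : Submodule K V) B := h2.trans h4
        nlinarith
      have h7 : (finrank K (Sᗮ : Submodule K V) : ℝ) - mass ρ (Sᗮ : Submodule K V) B = 0 :=
        pow_eq_zero_iff two_ne_zero |>.mp (le_antisymm h5 (sq_nonneg _))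
      linarith
    intro v hv
    have h1 := hC v hv
    have h2 : ρ (y⁻¹ * B⁻¹ * y * B) v = ρ y⁻¹ (ρ (B⁻¹ * y * B) v) := by
      rw [← rho_mul_apply, show y⁻¹ * (B⁻¹ * y * B) = y⁻¹ * B⁻¹ * y * B by group]
    rw [h2] at h1
    have h3 := hyE _ h1
    rw [rho_apply_inv] at h3
    rw [h3]
    exact h1
  have hX : ∀ x ∈ X, Fix ρ (Sᗮ : Submodule K V) (B⁻¹ * x * B) := by
    have h1 : X ≤ (fixSub ρ (Sᗮ : Submodule K V)).comap (MulAut.conj B⁻¹).toMonoidHom := by
      refine hgen.trans ((Subgroup.closure_le _).mpr fun y hyy => ?_)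
      have h2 := hy y hyy
      show Fix ρ (Sᗮ : Submodule K V) (B⁻¹ * y * B⁻¹⁻¹)
      rwa [inv_inv]
    intro x hx
    have h2 : Fix ρ (Sᗮ : Submodule K V) (B⁻¹ * x * B⁻¹⁻¹) := h1 hx
    rwa [inv_inv] at h2
  have hSX : ∀ x ∈ X, Fix ρ S x := by
    intro x hx
    refine hES x fun v hv => ?_
    rw [hfix v hv x hx]
    exact hv
  have hW : ∀ x ∈ X, ∀ w ∈ S.map (ρ B) ⊓ S, ρ x w ∈ S.map (ρ B) ⊓ S := by
    rintro x hx w ⟨⟨s, hs, rfl⟩, hw⟩
    refine ⟨⟨ρ (B⁻¹ * x * B) s, hES _ (hX x hx) s hs, ?_⟩, hSX x hx _ hw⟩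
    rw [rho_mul_apply, rho_mul_apply, rho_apply_inv]
  rcases hirr (S.map (ρ B) ⊓ S) inf_le_right hW with h | h
  · -- `B S ≤ E`
    have h1 : ∀ v ∈ S, ρ B v ∈ (Sᗮ : Submodule K V) := by
      intro v hv
      refine hker _ ?_
      have h2 : ρ b (ρ B v) - ρ B v ∈ S.map (ρ B) ⊓ S := by
        refine ⟨Submodule.sub_mem _ ⟨ρ (B⁻¹ * b * B) v, hES _ (hX b hbX) v hv, ?_⟩ ⟨v, hv, rfl⟩, hS _⟩
        rw [rho_mul_apply, rho_mul_apply, rho_apply_inv]
      rw [h, Submodule.mem_bot, sub_eq_zero] at h2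
      exact h2
    have h2 := orth_inv hρ h1
    have h3 : mass ρ S B⁻¹ = 0 := by
      refine Finset.sum_eq_zero fun j _ => ?_
      have h4 : S.orthogonalProjectionOnto (ρ B⁻¹ (stdOrthonormalBasis K S j : V)) = 0 := by
        rw [Submodule.orthogonalProjectionOnto_eq_zero_iff]
        exact h2 _ (stdOrthonormalBasis K S j).2
      rw [h4]
      simp
    have h4 := hmax ⟨g, hg⟩
    have h5 := mass_compl hρ (Sᗮ : Submodule K V) g
    have h6 := mass_compl hρ (Sᗮ : Submodule K V) B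
    rw [hEo] at h5 h6
    have h7 : mass ρ S g⁻¹ ≤ 0 := by
      simp only at h4
      linarith
    have h8 := orth_inv hρ (orth_of_mass hρ h7)
    rw [inv_inv] at h8
    exact Or.inr h8
  · exfalso
    have h1 : Fix ρ S B⁻¹ := by
      intro v hv
      rw [← h] at hv
      obtain ⟨⟨s, hs, rfl⟩, -⟩ := hv
      rw [rho_inv_apply]
      exact hs
    exact hB (fix_perp hρ h1)

/-- the fixed space -/
def fixSp (ρ : Representation K G V) (b : G) : Submodule K V := LinearMap.ker (ρ b - 1)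

/-- the support -/
def supp (ρ : Representation K G V) (b : G) : Submodule K V := LinearMap.range (ρ b - 1)

theorem mem_fixSp {b : G} {v : V} : v ∈ fixSp ρ b ↔ ρ b v = v := by
  rw [fixSp, LinearMap.mem_ker, LinearMap.sub_apply, Module.End.one_apply, sub_eq_zero]

theorem sub_mem_supp (b : G) (v : V) : ρ b v - v ∈ supp ρ b := ⟨v, rfl⟩

end Iso

section Kind

variable {K : Type*} [Field K] {V : Type*} [AddCommGroup V] [Module K V] {G : Type*} [Group G]

/-- the hypothesis on `X` and `b` -/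
structure Kind (ρ : Representation K G V) (X : Subgroup G) (b : G) : Prop where
  mem : b ∈ X
  gen : X ≤ Subgroup.closure (conjs X b)
  fix : ∀ v, ρ b v = v → ∀ x ∈ X, ρ x v = v
  poly : ∀ v, ρ b (ρ b (ρ b v - v)) - ρ b (ρ b v - v) + (ρ b v - v) = 0
  irr : ∀ W : Submodule K V, W ≤ LinearMap.range (ρ b - 1) → (∀ x ∈ X, ∀ w ∈ W, ρ x w ∈ W) →
    W = ⊥ ∨ W = LinearMap.range (ρ b - 1)

end Kind

section Two

variable {K : Type*} [RCLike K] {V : Type*} [NormedAddCommGroup V] [InnerProductSpace K V]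
  [FiniteDimensional K V] {G : Type*} [Group G]

local notation "⟪" x ", " y "⟫" => inner K x y

variable {ρ : Representation K G V} (hρ : ∀ g v, ‖ρ g v‖ = ‖v‖)

include hρ in
theorem supp_perp (b : G) : ((supp ρ b)ᗮ : Submodule K V) = fixSp ρ b := by
  ext v
  rw [Submodule.mem_orthogonal, mem_fixSp]
  constructor
  · intro h
    have h1 : ∀ u, ⟪u, ρ b⁻¹ v - v⟫ = 0 := by
      intro u
      have h2 := h _ (sub_mem_supp b u)
      rw [inner_sub_left] at h2
      rw [inner_sub_right, inner_rho_right hρ, inv_inv]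
      exact h2
    have h2 : ρ b⁻¹ v - v = 0 := by
      have := h1 (ρ b⁻¹ v - v)
      rwa [inner_self_eq_zero] at this
    rw [sub_eq_zero] at h2
    conv_lhs => rw [← h2]
    exact rho_apply_inv b v
  · rintro h _ ⟨u, rfl⟩
    have h1 : ⟪ρ b u, v⟫ = ⟪u, v⟫ := by
      conv_lhs => rw [← h]
      exact inner_rho hρ b u v
    rw [LinearMap.sub_apply, Module.End.one_apply, inner_sub_left, h1, sub_self]

include hρ in
/-- Theorem 60 for a `Kind` -/
theorem Kind.sixty [Finite G] {X : Subgroup G} {b : G} (h : Kind ρ X b) (g : G) :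
    (∀ v ∈ supp ρ b, ρ g v ∈ supp ρ b) ∨ ∀ v ∈ supp ρ b, ρ g v ∈ fixSp ρ b := by
  have h1 := sixty_iso hρ X b h.gen (supp ρ b) ?_ h.mem (sub_mem_supp b) ?_ ?_ h.irr g
  · rwa [supp_perp hρ] at h1
  · intro v hv x hx
    rw [supp_perp hρ, mem_fixSp] at hv
    exact h.fix v hv x hx
  · intro v hv
    rw [supp_perp hρ, mem_fixSp]
    exact hv
  · -- the norm
    have key : ∀ w ∈ supp ρ b, ‖w - ρ b w‖ = ‖w‖ := by
      rintro _ ⟨v, rfl⟩
      have h1 := h.poly v
      have h2 : (ρ b - 1) v = ρ b v - v := rfl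
      rw [h2]
      set w := ρ b v - v
      have h3 : w - ρ b w = - ρ b (ρ b w) := by
        rw [eq_neg_iff_add_eq_zero, ← h1]
        abel
      rw [h3, norm_neg, hρ, hρ]
    intro v
    have h3 : v = ((supp ρ b).orthogonalProjectionOnto v : V) +
        ((supp ρ b)ᗮ.orthogonalProjectionOnto v : V) :=
      (Submodule.starProjection_add_starProjection_orthogonal (K := supp ρ b) v).symm
    have h4 : ρ b ((supp ρ b)ᗮ.orthogonalProjectionOnto v : V) = ((supp ρ b)ᗮ.orthogonalProjectionOnto v : V) := by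
      have h6 : ∀ u ∈ ((supp ρ b)ᗮ : Submodule K V), ρ b u = u := by
        intro u hu
        rwa [supp_perp hρ, mem_fixSp] at hu
      exact h6 _ ((supp ρ b)ᗮ.orthogonalProjectionOnto v).2
    have h5 : v - ρ b v = ((supp ρ b).orthogonalProjectionOnto v : V) -
        ρ b ((supp ρ b).orthogonalProjectionOnto v : V) := by
      conv_lhs => rw [h3]
      rw [map_add, h4]
      abel
    rw [h5, key _ ((supp ρ b).orthogonalProjectionOnto v).2]
    exact Submodule.norm_orthogonalProjectionOnto_apply_le _ v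

include hρ in
theorem Kind.fix_supp {X : Subgroup G} {b : G} (h : Kind ρ X b) {y : G} (hy : y ∈ X) (v : V) :
    ρ y v - v ∈ supp ρ b := by
  have h1 : ((supp ρ b)ᗮ : Submodule K V)ᗮ = supp ρ b := Submodule.orthogonal_orthogonal _
  rw [← h1, supp_perp hρ, Submodule.mem_orthogonal]
  intro u hu
  rw [inner_sub_right, inner_rho_right hρ, h.fix u (mem_fixSp.mp hu) y⁻¹ (X.inv_mem hy), sub_self]

include hρ in
theorem eq_zero_of_perp {b' : G} (hp : ∀ v, ρ b' (ρ b' (ρ b' v - v)) - ρ b' (ρ b' v - v) + (ρ b' v - v) = 0)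
    {v : V} (hv : ⟪v, ρ b' v⟫ = 0) : v = 0 := by
  have h1 := congrArg (fun w => RCLike.re ⟪ρ b' v, w⟫) (hp v)
  simp only [map_sub, inner_add_right, inner_sub_right, inner_zero_right, inner_rho hρ, map_add, map_zero, hv]
    at h1
  have h2 : ⟪ρ b' v, v⟫ = 0 := by rw [← inner_conj_symm, hv, map_zero]
  rw [h2] at h1
  have h3 : RCLike.re ⟪v, ρ b' (ρ b' v)⟫ ≤ ‖v‖ ^ 2 := by
    refine (RCLike.re_le_norm _).trans ((norm_inner_le_norm _ _).trans ?_)
    rw [hρ, hρ, sq]
  have h3' : - RCLike.re ⟪v, ρ b' (ρ b' v)⟫ ≤ ‖v‖ ^ 2 := by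
    refine (neg_le_abs _).trans ((RCLike.abs_re_le_norm _).trans ((norm_inner_le_norm _ _).trans ?_))
    rw [hρ, hρ, sq]
  have h4 : RCLike.re ⟪v, v⟫ = ‖v‖ ^ 2 := inner_self_eq_norm_sq v
  simp only [map_zero, h4] at h1
  have h5 : ‖v‖ ^ 2 ≤ 0 := by nlinarith
  have h6 : ‖v‖ = 0 := pow_eq_zero_iff two_ne_zero |>.mp (le_antisymm h5 (sq_nonneg _))
  exact norm_eq_zero.mp h6

theorem poly_conj {b : G} (hp : ∀ v, ρ b (ρ b (ρ b v - v)) - ρ b (ρ b v - v) + (ρ b v - v) = 0) (x : G) :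
    ∀ v, ρ (x * b * x⁻¹) (ρ (x * b * x⁻¹) (ρ (x * b * x⁻¹) v - v)) -
      ρ (x * b * x⁻¹) (ρ (x * b * x⁻¹) v - v) + (ρ (x * b * x⁻¹) v - v) = 0 := by
  intro v
  have h1 := congrArg (ρ x) (hp (ρ x⁻¹ v))
  have h2 : ∀ w, ρ (x * b * x⁻¹) w = ρ x (ρ b (ρ x⁻¹ w)) := fun w => by
    rw [rho_mul_apply, rho_mul_apply]
  simp only [h2, map_sub, rho_inv_apply]
  simp only [map_sub, map_add, map_zero, rho_apply_inv] at h1 ⊢
  exact h1

include hρ in
/-- the conjugates of `b'` preserve the supports of the conjugates of `X` -/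
theorem Kind.inv_of_conj [Finite G] {X X' : Subgroup G} {b b' : G} (h : Kind ρ X b) (h' : Kind ρ X' b')
    {x' : G} (hx' : x' ∈ X') : ∀ v ∈ supp ρ b, ρ x' v ∈ supp ρ b := by
  have h1 : X' ≤ fixSub ρ (supp ρ b) := by
    refine h'.gen.trans ((Subgroup.closure_le _).mpr ?_)
    rintro _ ⟨x, hx, rfl⟩
    rcases h.sixty hρ (x * b' * x⁻¹) with h2 | h2
    · exact h2
    · intro v hv
      have h3 : v = 0 := by
        refine eq_zero_of_perp hρ (poly_conj h'.poly x) ?_
        have h4 := h2 v hv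
        rw [← supp_perp hρ, Submodule.mem_orthogonal] at h4
        exact h4 v hv
      rw [h3, map_zero]
      exact Submodule.zero_mem _
  exact h1 hx'

include hρ in
/-- Two subgroups of this kind: equal or orthogonal supports. -/
theorem Kind.two [Finite G] {X X' : Subgroup G} {b b' : G} (h : Kind ρ X b) (h' : Kind ρ X' b') :
    supp ρ b = supp ρ b' ∨ (supp ρ b ≤ fixSp ρ b' ∧ supp ρ b' ≤ fixSp ρ b) := by
  have hS : ∀ x' ∈ X', ∀ v ∈ supp ρ b, ρ x' v ∈ supp ρ b := fun x' hx' => h.inv_of_conj hρ h' hx'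
  have hS' : ∀ x ∈ X, ∀ v ∈ supp ρ b', ρ x v ∈ supp ρ b' := fun x hx => h'.inv_of_conj hρ h hx
  have h1 := h'.irr (supp ρ b ⊓ supp ρ b') inf_le_right (fun x' hx' w hw =>
    ⟨hS x' hx' w hw.1, by
      have h2 := Submodule.add_mem _ (h'.fix_supp hρ hx' w) hw.2
      rwa [sub_add_cancel] at h2⟩)
  have h2 := h.irr (supp ρ b ⊓ supp ρ b') inf_le_left (fun x hx w hw =>
    ⟨by
      have h2 := Submodule.add_mem _ (h.fix_supp hρ hx w) hw.1
      rwa [sub_add_cancel] at h2, hS' x hx w hw.2⟩)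
  have h3 : supp ρ b ⊓ supp ρ b' = ⊥ → supp ρ b ≤ fixSp ρ b' ∧ supp ρ b' ≤ fixSp ρ b := by
    intro h0
    constructor
    · intro v hv
      have h4 : ρ b' v - v ∈ supp ρ b ⊓ supp ρ b' :=
        ⟨Submodule.sub_mem _ (hS b' h'.mem v hv) hv, sub_mem_supp b' v⟩
      rw [h0, Submodule.mem_bot, sub_eq_zero] at h4
      exact mem_fixSp.mpr h4
    · intro v hv
      have h4 : ρ b v - v ∈ supp ρ b ⊓ supp ρ b' :=
        ⟨sub_mem_supp b v, Submodule.sub_mem _ (hS' b h.mem v hv) hv⟩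
      rw [h0, Submodule.mem_bot, sub_eq_zero] at h4
      exact mem_fixSp.mpr h4
  rcases h1 with h1 | h1
  · exact Or.inr (h3 h1)
  · rcases h2 with h2 | h2
    · exact Or.inr (h3 h2)
    · exact Or.inl (h2.symm.trans h1)

end Two

section Free

variable {K : Type*} [RCLike K] {V : Type*} [AddCommGroup V] [Module K V] [FiniteDimensional K V]
  {G : Type*} [Group G]

/-- The invariant inner product. -/
@[instance_reducible]
noncomputable def core [Fintype G] (ρ : Representation K G V) : InnerProductSpace.Core K V :=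
  let b : V ≃ₗ[K] EuclideanSpace K (Fin (finrank K V)) :=
    (finBasis K V).equivFun.trans (WithLp.linearEquiv 2 K _).symm
  { inner := fun v w => ∑ g : G, inner K (b (ρ g v)) (b (ρ g w))
    conj_inner_symm := fun v w => by
      rw [map_sum]
      exact Finset.sum_congr rfl fun g _ => inner_conj_symm _ _
    re_inner_nonneg := fun v => by
      rw [map_sum]
      exact Finset.sum_nonneg fun g _ => inner_self_nonneg
    add_left := fun u v w => by
      rw [← Finset.sum_add_distrib]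
      refine Finset.sum_congr rfl fun g _ => ?_
      rw [map_add, map_add, inner_add_left]
    smul_left := fun u v c => by
      rw [Finset.mul_sum]
      refine Finset.sum_congr rfl fun g _ => ?_
      rw [map_smul, map_smul, inner_smul_left]
    definite := fun v hv => by
      have h1 : ∑ g : G, RCLike.re (inner K (b (ρ g v)) (b (ρ g v))) = 0 := by
        rw [← map_sum, hv]
        simp
      have h2 := (Finset.sum_eq_zero_iff_of_nonneg
        (fun g _ => inner_self_nonneg (𝕜 := K) (x := b (ρ g v)))).1 h1 1 (Finset.mem_univ _)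
      have h3 : b (ρ 1 v) = 0 := (re_inner_self_nonpos (𝕜 := K)).1 (le_of_eq h2)
      rw [map_one] at h3
      exact b.map_eq_zero_iff.1 h3 }

/-- **Theorem 60**, two subgroups, no inner product. -/
theorem sixty [Finite G] {ρ : Representation K G V} {X X' : Subgroup G} {b b' : G} (h : Kind ρ X b)
    (h' : Kind ρ X' b') :
    LinearMap.range (ρ b - 1) = LinearMap.range (ρ b' - 1) ∨
      (∀ v ∈ LinearMap.range (ρ b - 1), ρ b' v = v) ∧ ∀ v ∈ LinearMap.range (ρ b' - 1), ρ b v = v := by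
  have := Fintype.ofFinite G
  let _ : NormedAddCommGroup V := (core ρ).toNormedAddCommGroup
  let _ : InnerProductSpace K V := InnerProductSpace.ofCore (core ρ).toCore
  let e : V ≃ₗ[K] EuclideanSpace K (Fin (finrank K V)) :=
    (finBasis K V).equivFun.trans (WithLp.linearEquiv 2 K _).symm
  have hin : ∀ v w : V, inner K v w = ∑ g : G, inner K (e (ρ g v)) (e (ρ g w)) := fun v w => rfl
  have hinv : ∀ (g : G) (v w : V), inner K (ρ g v) (ρ g w) = inner K v w := by
    intro g v w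
    rw [hin, hin]
    refine Fintype.sum_equiv (Equiv.mulRight g) _ _ fun h => ?_
    rw [Equiv.coe_mulRight, map_mul, Module.End.mul_apply, Module.End.mul_apply]
  have hρ : ∀ (g : G) (v : V), ‖ρ g v‖ = ‖v‖ := by
    intro g v
    rw [norm_eq_sqrt_re_inner (𝕜 := K), norm_eq_sqrt_re_inner (𝕜 := K), hinv]
  rcases h.two hρ h' with h1 | ⟨h1, h2⟩
  · exact Or.inl h1
  · exact Or.inr ⟨fun v hv => mem_fixSp.mp (h1 hv), fun v hv => mem_fixSp.mp (h2 hv)⟩

/-- In the second case the two subgroups act as commuting groups. -/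
theorem sixty_comm [Finite G] {ρ : Representation K G V} {X X' : Subgroup G} {b b' : G} (h : Kind ρ X b)
    (h' : Kind ρ X' b') (hne : LinearMap.range (ρ b - 1) ≠ LinearMap.range (ρ b' - 1)) :
    (∀ v ∈ LinearMap.range (ρ b - 1), ∀ x' ∈ X', ρ x' v = v) ∧
      (∀ v ∈ LinearMap.range (ρ b' - 1), ∀ x ∈ X, ρ x v = v) ∧
      ∀ x ∈ X, ∀ x' ∈ X', ρ (x * x') = ρ (x' * x) := by
  obtain ⟨h1, h2⟩ := (sixty h h').resolve_left hne
  have h3 : ∀ v ∈ LinearMap.range (ρ b - 1), ∀ x' ∈ X', ρ x' v = v := fun v hv x' hx' =>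
    h'.fix v (h1 v hv) x' hx'
  have h4 : ∀ v ∈ LinearMap.range (ρ b' - 1), ∀ x ∈ X, ρ x v = v := fun v hv x hx =>
    h.fix v (h2 v hv) x hx
  refine ⟨h3, h4, fun x hx x' hx' => ?_⟩
  have hx1 : ∀ v, ρ x v - v ∈ LinearMap.range (ρ b - 1) := by
    have := Fintype.ofFinite G
    let _ : NormedAddCommGroup V := (core ρ).toNormedAddCommGroup
    let _ : InnerProductSpace K V := InnerProductSpace.ofCore (core ρ).toCore
    let e : V ≃ₗ[K] EuclideanSpace K (Fin (finrank K V)) :=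
      (finBasis K V).equivFun.trans (WithLp.linearEquiv 2 K _).symm
    have hin : ∀ v w : V, inner K v w = ∑ g : G, inner K (e (ρ g v)) (e (ρ g w)) := fun v w => rfl
    have hinv : ∀ (g : G) (v w : V), inner K (ρ g v) (ρ g w) = inner K v w := by
      intro g v w
      rw [hin, hin]
      refine Fintype.sum_equiv (Equiv.mulRight g) _ _ fun h => ?_
      rw [Equiv.coe_mulRight, map_mul, Module.End.mul_apply, Module.End.mul_apply]
    have hρ : ∀ (g : G) (v : V), ‖ρ g v‖ = ‖v‖ := by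
      intro g v
      rw [norm_eq_sqrt_re_inner (𝕜 := K), norm_eq_sqrt_re_inner (𝕜 := K), hinv]
    exact fun v => h.fix_supp hρ hx v
  have hx2 : ∀ v, ρ x' v - v ∈ LinearMap.range (ρ b' - 1) := by
    have := Fintype.ofFinite G
    let _ : NormedAddCommGroup V := (core ρ).toNormedAddCommGroup
    let _ : InnerProductSpace K V := InnerProductSpace.ofCore (core ρ).toCore
    let e : V ≃ₗ[K] EuclideanSpace K (Fin (finrank K V)) :=
      (finBasis K V).equivFun.trans (WithLp.linearEquiv 2 K _).symm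
    have hin : ∀ v w : V, inner K v w = ∑ g : G, inner K (e (ρ g v)) (e (ρ g w)) := fun v w => rfl
    have hinv : ∀ (g : G) (v w : V), inner K (ρ g v) (ρ g w) = inner K v w := by
      intro g v w
      rw [hin, hin]
      refine Fintype.sum_equiv (Equiv.mulRight g) _ _ fun h => ?_
      rw [Equiv.coe_mulRight, map_mul, Module.End.mul_apply, Module.End.mul_apply]
    have hρ : ∀ (g : G) (v : V), ‖ρ g v‖ = ‖v‖ := by
      intro g v
      rw [norm_eq_sqrt_re_inner (𝕜 := K), norm_eq_sqrt_re_inner (𝕜 := K), hinv]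
    exact fun v => h'.fix_supp hρ hx' v
  ext v
  rw [map_mul, map_mul, Module.End.mul_apply, Module.End.mul_apply]
  have e1 : ρ x' v = v + (ρ x' v - v) := by abel
  have e2 : ρ x v = v + (ρ x v - v) := by abel
  rw [e1, e2, map_add, map_add, h4 _ (hx2 v) x hx, h3 _ (hx1 v) x' hx']
  abel

end Free

end Cfsg.Agent.H988.RV
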